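import Mathlib.RingTheory.PowerSeries.Order
import Mathlib.RingTheory.PowerSeries.Inverse
import Mathlib.Algebra.CharP.Algebra
import Mathlib.Algebra.CharP.Lemmas
import Mathlib.Algebra.Algebra.Equiv
import Mathlib.Algebra.Module.LinearMap.End
import Mathlib.Algebra.Module.End
import Mathlib.RingTheory.PowerSeries.NoZeroDivisors
import Mathlib.Tactic.LinearCombination
import Mathlib.Tactic.Ring

universe u

namespace RamBreak

open PowerSeries

variable {k : Type u} [Field k]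

def Ord (f : k⟦X⟧) (ν : ℕ) : Prop := ∃ h : k⟦X⟧, f = X ^ ν * h ∧ constantCoeff h ≠ 0

theorem ord_iff {f : k⟦X⟧} {ν : ℕ} : Ord f ν ↔ f.order = ν := by
  constructor
  · rintro ⟨h, rfl, hh⟩
    have h0 : h.order = 0 := by
      rw [← Nat.cast_zero (R := ℕ∞), order_eq_nat]
      exact ⟨by simpa using hh, fun i hi => absurd hi (Nat.not_lt_zero i)⟩
    rw [order_mul, order_X_pow, h0, add_zero]
  · intro h
    obtain ⟨g, hg⟩ : X ^ ν ∣ f := X_pow_dvd_iff.mpr fun i hi => (order_eq_nat.mp h).2 i hi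
    refine ⟨g, hg, ?_⟩
    have := (order_eq_nat.mp h).1
    rw [hg, coeff_X_pow_mul', if_pos le_rfl, Nat.sub_self, coeff_zero_eq_constantCoeff] at this
    exact this

theorem Ord.ne_zero {f : k⟦X⟧} {ν : ℕ} (h : Ord f ν) : f ≠ 0 := by
  intro h0
  rw [ord_iff, h0, order_zero] at h
  exact ENat.top_ne_natCast ν h

theorem exists_ord {f : k⟦X⟧} (hf : f ≠ 0) : ∃ ν, Ord f ν := by
  refine ⟨f.order.toNat, ord_iff.mpr (ENat.natCast_toNat fun h => hf (order_eq_top.mp h)).symm⟩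

theorem Ord.unique {f : k⟦X⟧} {a b : ℕ} (ha : Ord f a) (hb : Ord f b) : a = b := by
  rw [ord_iff] at ha hb
  exact_mod_cast ha.symm.trans hb

theorem Ord.mul {f g : k⟦X⟧} {a b : ℕ} (ha : Ord f a) (hb : Ord g b) : Ord (f * g) (a + b) := by
  rw [ord_iff] at *
  rw [order_mul, ha, hb, Nat.cast_add]

theorem Ord.pow {f : k⟦X⟧} {a : ℕ} (ha : Ord f a) (n : ℕ) : Ord (f ^ n) (n * a) := by
  rw [ord_iff] at *
  rw [order_pow, ha, nsmul_eq_mul, Nat.cast_mul]

theorem one_add_pow (e : k⟦X⟧) (n : ℕ) : ∃ R, (1 + e) ^ n = 1 + (n : k⟦X⟧) * e + e ^ 2 * R := by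
  induction n with
  | zero => exact ⟨0, by simp⟩
  | succ n ih =>
    obtain ⟨R, hR⟩ := ih
    exact ⟨R * (1 + e) + n, by rw [pow_succ, hR]; push_cast; ring⟩

variable (σ : k⟦X⟧ ≃ₐ[k] k⟦X⟧) {m : ℕ}

theorem dvd_sub_of_le (hd : (X : k⟦X⟧) ^ (m + 1) ∣ σ X - X) :
    ∀ j, j ≤ m + 1 → ∀ g : k⟦X⟧, X ^ j ∣ σ g - g := by
  intro j
  induction j with
  | zero => intro _ g; rw [pow_zero]; exact one_dvd _
  | succ j ih =>
    intro hj g
    have e := eq_X_mul_shift_add_const g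
    set g' := PowerSeries.mk fun p => coeff (p + 1) g
    have hC : σ (C (constantCoeff g)) = C (constantCoeff g) := σ.commutes _
    have h1 : σ g - g = X * (σ g' - g') + (σ X - X) * σ g' := by
      rw [e, map_add, map_mul, hC]; ring
    rw [h1]
    exact dvd_add (pow_succ' (X : k⟦X⟧) j ▸ mul_dvd_mul_left X (ih (by omega) g'))
      (((pow_dvd_pow X hj).trans hd).mul_right _)

variable {σ}

theorem cc_map (hd : (X : k⟦X⟧) ^ (m + 1) ∣ σ X - X) (g : k⟦X⟧) :
    constantCoeff (σ g) = constantCoeff g := by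
  have := X_dvd_iff.mp (by simpa using dvd_sub_of_le σ hd 1 (by omega) g)
  rwa [map_sub, sub_eq_zero] at this

/-- leading term of `σ f - f` -/
theorem leading (hm : 1 ≤ m) {δ : k⟦X⟧} (hd : σ X - X = X ^ (m + 1) * δ) (ν : ℕ) (h : k⟦X⟧) :
    ∃ g, σ (X ^ ν * h) - X ^ ν * h = X ^ (ν + m) * g ∧
      constantCoeff g = (ν : k) * constantCoeff δ * constantCoeff h := by
  obtain ⟨η, hη⟩ := dvd_sub_of_le σ ⟨δ, hd⟩ (m + 1) le_rfl h
  obtain ⟨R, hR⟩ := one_add_pow (X ^ m * δ) ν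
  obtain ⟨m', rfl⟩ : ∃ m', m = m' + 1 := ⟨m - 1, by omega⟩
  have e1 : σ X = X * (1 + X ^ (m' + 1) * δ) := by linear_combination hd
  refine ⟨(ν : k⟦X⟧) * δ * h + X ^ (m' + 1) * δ ^ 2 * R * h +
    (1 + X ^ (m' + 1) * δ) ^ ν * (X * η), ?_, ?_⟩
  · rw [map_mul, map_pow, e1, mul_pow, show σ h = h + X ^ (m' + 1 + 1) * η by linear_combination hη,
      hR]
    ring
  · simp

theorem ord_delta (hm : 1 ≤ m) {δ : k⟦X⟧} (hd : σ X - X = X ^ (m + 1) * δ)
    (hδ : constantCoeff δ ≠ 0) {f : k⟦X⟧} {ν : ℕ} (hf : Ord f ν) (hν : (ν : k) ≠ 0) :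
    Ord (σ f - f) (ν + m) := by
  obtain ⟨h, rfl, hh⟩ := hf
  obtain ⟨g, hg, hg0⟩ := leading hm hd ν h
  exact ⟨g, hg, by rw [hg0]; exact mul_ne_zero (mul_ne_zero hν hδ) hh⟩

theorem ord_map {δ : k⟦X⟧} (hd : σ X - X = X ^ (m + 1) * δ) (hm : 1 ≤ m) {f : k⟦X⟧} {ν : ℕ}
    (hf : Ord f ν) : Ord (σ f) ν := by
  obtain ⟨h, rfl, hh⟩ := hf
  obtain ⟨g, hg, -⟩ := leading hm hd ν h
  refine ⟨h + X ^ m * g, by rw [mul_add, ← mul_assoc, ← pow_add, ← hg]; ring, ?_⟩
  simpa [zero_pow (show m ≠ 0 by omega)] using hh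

variable (p : ℕ) [Fact p.Prime] [CharP k p]

theorem one_le_break (hσp : σ ^ p = 1) {δ : k⟦X⟧} (hd : σ X - X = X ^ (m + 1) * δ)
    (hδ : constantCoeff δ ≠ 0) : 1 ≤ m := by
  by_contra hm
  obtain rfl : m = 0 := by omega
  set c := 1 + constantCoeff δ with hc
  have e1 : σ X = X * (1 + δ) := by linear_combination hd
  have key : ∀ i : ℕ, ∃ g, (σ ^ i) X = X * g ∧ constantCoeff g = c ^ i := by
    intro i
    induction i with
    | zero => exact ⟨1, by simp, by simp⟩
    | succ i ih =>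
      obtain ⟨g, hg, hgc⟩ := ih
      refine ⟨(1 + δ) * σ g, ?_, ?_⟩
      · rw [pow_succ', AlgEquiv.mul_apply, hg, map_mul, e1]; ring
      · rw [map_mul, cc_map ⟨δ, hd⟩, hgc, map_add, map_one, pow_succ']
  obtain ⟨g, hg, hgc⟩ := key p
  rw [hσp, AlgEquiv.one_apply] at hg
  have hg1 : g = 1 := mul_left_cancel₀ X_ne_zero (hg.symm.trans (mul_one X).symm)
  rw [hg1, map_one] at hgc
  have : (c - 1) ^ p = 0 := by rw [sub_pow_char, ← hgc, one_pow, sub_self]
  exact hδ (by simpa [hc] using pow_eq_zero_iff (Fact.out : p.Prime).ne_zero |>.mp this)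

/-- the norm -/
noncomputable def norm (σ : k⟦X⟧ ≃ₐ[k] k⟦X⟧) : k⟦X⟧ := ∏ i ∈ Finset.range p, (σ ^ i) X

theorem ord_norm {δ : k⟦X⟧} (hd : σ X - X = X ^ (m + 1) * δ) (hm : 1 ≤ m) : Ord (norm p σ) p := by
  have hX : ∀ i : ℕ, Ord ((σ ^ i) X) 1 := by
    intro i
    induction i with
    | zero => exact ⟨1, by simp, by simp⟩
    | succ i ih => rw [pow_succ', AlgEquiv.mul_apply]; exact ord_map hd hm ih
  suffices ∀ n, Ord (∏ i ∈ Finset.range n, (σ ^ i) X) n from this p
  intro n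
  induction n with
  | zero => exact ⟨1, by simp, by simp⟩
  | succ n ih => rw [Finset.prod_range_succ]; exact ih.mul (hX n)

theorem map_norm (hσp : σ ^ p = 1) : σ (norm p σ) = norm p σ := by
  have h1 : σ (norm p σ) * X = ∏ i ∈ Finset.range (p + 1), (σ ^ i) X := by
    rw [Finset.prod_range_succ', norm, map_prod]
    simp [pow_succ', AlgEquiv.mul_apply]
  rw [Finset.prod_range_succ, hσp, AlgEquiv.one_apply] at h1
  exact mul_right_cancel₀ X_ne_zero h1

theorem delta_iterate (hσp : σ ^ p = 1) (w : k⟦X⟧) : (fun g => σ g - g)^[p] w = 0 := by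
  haveI : CharP (Module.End k k⟦X⟧) p :=
    charP_of_injective_algebraMap (FaithfulSMul.algebraMap_injective k (Module.End k k⟦X⟧)) p
  let L : Module.End k k⟦X⟧ := σ.toLinearMap
  have hL : ∀ i, ∀ g, (L ^ i) g = (σ ^ i) g := by
    intro i
    induction i with
    | zero => intro g; simp
    | succ i ih => intro g; rw [pow_succ', Module.End.mul_apply, ih, pow_succ', AlgEquiv.mul_apply]; rfl
  have h0 : (L - 1) ^ p = 0 := by
    rw [sub_pow_char_of_commute _ (Commute.one_right L), one_pow, sub_eq_zero]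
    ext g : 1
    rw [hL, hσp]; rfl
  have hfun : (fun g => σ g - g) = ⇑(L - 1) := rfl
  rw [hfun, ← Module.End.coe_pow, h0]
  rfl

theorem break_iff (hσp : σ ^ p = 1) (hm : (σ X - X).order = ((m + 1 : ℕ) : ℕ∞)) :
    p ∣ m + 1 ↔ ∃ s a : k⟦X⟧, s.order = 1 ∧ σ a = a ∧ σ s = s + a := by
  obtain ⟨δ, hd, hδ⟩ := ord_iff.mpr hm
  have hm1 := one_le_break p hσp hd hδ
  have hp : p.Prime := Fact.out
  constructor
  · rintro ⟨q, hq⟩
    let D : k⟦X⟧ → k⟦X⟧ := fun g => σ g - g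
    have hiter : ∀ i, i ≤ p - 2 → Ord (D^[i] (X ^ (p - 1))) (p - 1 + i * m) := by
      intro i
      induction i with
      | zero => intro _; exact ⟨1, by simp, by simp⟩
      | succ i ih =>
        intro hi
        rw [Function.iterate_succ_apply', show p - 1 + (i + 1) * m = p - 1 + i * m + m by ring]
        refine ord_delta hm1 hd hδ (ih (by omega)) ?_
        rw [Ne, CharP.cast_eq_zero_iff k p]
        rintro ⟨t, ht⟩
        have h2 : p - 1 + i * m + i = p - 1 + p * (q * i) := by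
          rw [add_assoc, ← Nat.mul_succ, Nat.succ_eq_add_one, hq]; ring
        have h3 : p * t + i = p - 1 + p * (q * i) := by rw [← ht]; exact h2
        have h4 := congrArg (· % p) h3
        simp only [Nat.add_mul_mod_self_left, Nat.mul_add_mod_self_left] at h4
        rw [Nat.mod_eq_of_lt (show i < p by omega), Nat.mod_eq_of_lt (show p - 1 < p by omega)] at h4
        omega
    set s0 := D^[p - 2] (X ^ (p - 1)) with hs0
    obtain ⟨t0, hst, ht0⟩ := hiter (p - 2) le_rfl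
    obtain ⟨u, hu, hu0⟩ := ord_norm p hd hm1
    set e := (p - 2) * q with he
    have hexp : p - 1 + (p - 2) * m = p * e + 1 := by
      obtain ⟨r, rfl⟩ : ∃ r, p = r + 2 := ⟨p - 2, by have := hp.two_le; omega⟩
      simp only [he, Nat.add_sub_cancel]
      calc r + 2 - 1 + r * m = r * (m + 1) + 1 := by
            rw [show r + 2 - 1 = r + 1 from rfl]; ring
        _ = (r + 2) * (r * q) + 1 := by rw [hq]; ring
    have huu : IsUnit (u ^ e) := (isUnit_iff_constantCoeff.mpr (isUnit_iff_ne_zero.mpr hu0)).pow e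
    obtain ⟨v, hv⟩ := huu.exists_right_inv
    let s := X * t0 * v
    have hkey : norm p σ ^ e * s = s0 := by
      rw [hs0, hst, hexp, hu, mul_pow, ← pow_mul, pow_succ]
      linear_combination ((X : k⟦X⟧) ^ (p * e) * X * t0) * hv
    refine ⟨s, σ s - s, ?_, ?_, by ring⟩
    · rw [show (1 : ℕ∞) = ((1 : ℕ) : ℕ∞) from rfl, ← ord_iff]
      refine ⟨t0 * v, by simp only [s]; ring, ?_⟩
      rw [map_mul]
      refine mul_ne_zero ht0 fun h0 => ?_
      simpa [h0] using congrArg constantCoeff hv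
    · have h2 : D (D s0) = 0 := by
        rw [hs0, ← Function.iterate_succ_apply' D, ← Function.iterate_succ_apply' D,
          show (p - 2).succ.succ = p by have := hp.two_le; omega]
        exact delta_iterate p hσp _
      have hD : ∀ g, D (norm p σ ^ e * g) = norm p σ ^ e * D g := fun g => by
        simp only [D, map_mul, map_pow, map_norm p hσp]; ring
      rw [← hkey, hD, hD] at h2
      have h3 := (mul_eq_zero.mp h2).resolve_left (pow_ne_zero _ (Ord.ne_zero ⟨u, hu, hu0⟩))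
      exact sub_eq_zero.mp h3
  · rintro ⟨s, a, hs, ha, hsa⟩
    have hs' : Ord s 1 := ord_iff.mpr hs
    have h1 := ord_delta hm1 hd hδ hs' (by simp)
    rw [hsa, add_sub_cancel_left, add_comm 1 m] at h1
    by_contra hnd
    have h2 := ord_delta hm1 hd hδ h1 (by rwa [Ne, CharP.cast_eq_zero_iff k p])
    rw [ha, sub_self] at h2
    exact h2.ne_zero rfl

theorem conductor_eq (hσp : σ ^ p = 1) (hm : (σ X - X).order = ((m + 1 : ℕ) : ℕ∞))
    (f : k⟦X⟧) (hfσ : σ f = f) (hf0 : constantCoeff f ≠ 0) (μ : ℕ) (hμ : 0 < μ) (hpμ : ¬ p ∣ μ)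
    (a b : k⟦X⟧) (hb : b ≠ 0)
    (hE : (a ^ p - a * b ^ (p - 1)) * norm p σ ^ μ = f * b ^ p) : μ = m := by
  obtain ⟨δ, hd, hδ⟩ := ord_iff.mpr hm
  have hm1 := one_le_break p hσp hd hδ
  have hp : p.Prime := Fact.out
  obtain ⟨r, hr⟩ : ∃ r, p = r + 2 := ⟨p - 2, by have := hp.two_le; omega⟩
  have hN : Ord (norm p σ) p := ord_norm p hd hm1
  have hfo : Ord f 0 := ⟨f, by simp, hf0⟩
  have ha0 : a ≠ 0 := by
    rintro rfl
    rw [zero_pow hp.ne_zero, zero_mul, sub_self, zero_mul] at hE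
    exact (mul_ne_zero hfo.ne_zero (pow_ne_zero _ hb)) hE.symm
  obtain ⟨β, hβ⟩ := exists_ord hb
  obtain ⟨α, hα⟩ := exists_ord ha0
  obtain ⟨a', rfl, ha'⟩ := hα
  obtain ⟨b', rfl, hb'⟩ := hβ
  have hrhs : Ord (f * (X ^ β * b') ^ p) (p * β) := by
    simpa using hfo.mul (Ord.pow (f := X ^ β * b') ⟨b', rfl, hb'⟩ p)
  have hαβ : β = α + μ := by
    rcases le_or_gt β α with hle | hlt
    · exfalso
      obtain ⟨d, rfl⟩ := Nat.exists_eq_add_of_le hle
      have h : X ^ (p * β + p * μ) ∣ f * (X ^ β * b') ^ p := by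
        rw [← hE, pow_add]
        refine mul_dvd_mul ?_ ?_
        · refine ⟨X ^ (p * d) * a' ^ p - X ^ d * a' * b' ^ (p - 1), ?_⟩
          rw [hr, show r + 2 - 1 = r + 1 from rfl]
          ring
        · obtain ⟨u, hu, -⟩ := hN
          exact ⟨u ^ μ, by rw [hu]; ring⟩
      have h2 := X_pow_dvd_iff.mp h (p * β)
        (Nat.lt_add_of_pos_right (Nat.mul_pos hp.pos hμ))
      exact (order_eq_nat.mp (ord_iff.mp hrhs)).1 h2
    · obtain ⟨d, hd'⟩ := Nat.exists_eq_add_of_lt hlt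
      subst hd'
      have hlhs : Ord (((X ^ α * a') ^ p - X ^ α * a' * (X ^ (α + d + 1) * b') ^ (p - 1)) *
          norm p σ ^ μ) (p * α + μ * p) := by
        refine Ord.mul ⟨a' ^ p - X ^ ((d + 1) * (p - 1)) * a' * b' ^ (p - 1), ?_, ?_⟩ (hN.pow μ)
        · rw [hr, show r + 2 - 1 = r + 1 from rfl]
          ring
        · rw [map_sub, map_pow, map_mul, map_mul, map_pow, constantCoeff_X,
            zero_pow (Nat.mul_ne_zero (by omega) (by omega)), zero_mul, zero_mul, sub_zero]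
          exact pow_ne_zero _ ha'
      rw [hE] at hlhs
      have h3 := hlhs.unique hrhs
      rw [mul_comm μ p, ← Nat.mul_add] at h3
      exact (Nat.eq_of_mul_eq_mul_left hp.pos h3).symm
  obtain ⟨ga, hga, hga0⟩ := leading hm1 hd α a'
  obtain ⟨gb, hgb, hgb0⟩ := leading hm1 hd β b'
  set A := X ^ α * a' with hA
  set B := X ^ β * b' with hB
  have hB0 : Ord B β := ⟨b', rfl, hb'⟩
  have hw : Ord (σ A * B - A * σ B) (α + β + m) := by
    refine ⟨ga * b' - a' * gb, ?_, ?_⟩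
    · linear_combination B * hga - A * hgb
    · rw [map_sub, map_mul, map_mul, hga0, hgb0, hαβ, Nat.cast_add]
      have hk : (μ : k) ≠ 0 := by rwa [Ne, CharP.cast_eq_zero_iff k p]
      have : ((α : k) * constantCoeff δ * constantCoeff a') * constantCoeff b' -
          constantCoeff a' * (((α : k) + μ) * constantCoeff δ * constantCoeff b') =
          -((μ : k) * constantCoeff δ * constantCoeff a' * constantCoeff b') := by ring
      rw [this, neg_ne_zero]
      exact mul_ne_zero (mul_ne_zero (mul_ne_zero hk hδ) ha') hb'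
  have hv : Ord (B * σ B) (β + β) := hB0.mul (ord_map hd hm1 hB0)
  have hrel : (σ A * B - A * σ B) ^ p = (σ A * B - A * σ B) * (B * σ B) ^ (p - 1) := by
    haveI : CharP k⟦X⟧ p := charP_of_injective_algebraMap (R := k) (A := k⟦X⟧) C_injective p
    have hE2 := congrArg σ hE
    simp only [map_mul, map_sub, map_pow, hfσ, map_norm p hσp] at hE2
    rw [sub_pow_char]
    apply mul_right_cancel₀ (pow_ne_zero μ hN.ne_zero)
    rw [hr, show r + 2 - 1 = r + 1 from rfl] at *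
    linear_combination B ^ (r + 2) * hE2 - σ B ^ (r + 2) * hE
  have h5 := (hw.pow p).unique (hrel ▸ hw.mul (hv.pow (p - 1)))
  rw [hr, show r + 2 - 1 = r + 1 from rfl] at h5
  have h6 : (r + 1) * (α + β + m) = (r + 1) * (β + β) := by linarith
  have := Nat.eq_of_mul_eq_mul_left (Nat.succ_pos r) h6
  omega

end RamBreak
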